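import Groth.Agent.Lib.EtLocCoh19.Twist
import Groth.Agent.Lib.RDEdge19.Edge
import Groth.Agent.Lib.LocCoh24.Seq
import Mathlib.Algebra.Homology.HomologicalComplexAbelian
import Mathlib.Algebra.Homology.HomologySequence

/-! Global sections with supports. -/

universe u

open CategoryTheory CategoryTheory.Limits AlgebraicGeometry Opposite

namespace Groth.Agent.EtLocCoh19

open Groth.Agent.EtStalk

set_option autoImplicit false
set_option linter.style.haveILetI false
set_option linter.unusedSectionVars false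
set_option backward.isDefEq.respectTransparency false
set_option backward.isDefEq.respectTransparency.types false

variable {X U : Scheme.{u}}

/-- Sections over an object. -/
noncomputable abbrev evS (W : X.Etale) : EtCoh.Ab X ⥤ AddCommGrpCat.{u + 1} :=
  sheafToPresheaf X.smallEtaleTopology AddCommGrpCat.{u + 1} ⋙ (evaluation X.Etaleᵒᵖ AddCommGrpCat.{u + 1}).obj (op W)

instance preservesFiniteLimits_evS (W : X.Etale) : PreservesFiniteLimits (evS W) :=
  comp_preservesFiniteLimits _ _

instance additive_evS (W : X.Etale) : (evS W).Additive := inferInstance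

/-- Sections over `B` vanishing on `A`. -/
noncomputable def secK {A B : X.Etale} (a : A ⟶ B) : EtCoh.Ab X ⥤ AddCommGrpCat.{u + 1} where
  obj F := kernel (F.obj.map a.op)
  map {F G} f := kernel.map (F.obj.map a.op) (G.obj.map a.op) (f.hom.app (op B)) (f.hom.app (op A))
    (f.hom.naturality a.op)
  map_id F := by
    apply (cancel_mono (kernel.ι (F.obj.map a.op))).1
    simp
  map_comp f g := by
    apply (cancel_mono (kernel.ι _)).1
    simp

instance {A B : X.Etale} (a : A ⟶ B) : (secK a).Additive where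
  map_add {F G f g} := by
    apply (cancel_mono (kernel.ι (G.obj.map a.op))).1
    simp [secK, Preadditive.comp_add, Preadditive.add_comp]

/-- Transport along a square of isomorphisms. -/
noncomputable def secKIso {A B A' B' : X.Etale} (a : A ⟶ B) (a' : A' ⟶ B') (eA : A' ≅ A) (eB : B' ≅ B)
    (w : eA.hom ≫ a = a' ≫ eB.hom) : secK a ≅ secK a' :=
  NatIso.ofComponents (fun F => kernel.mapIso _ _ (F.obj.mapIso eB.op) (F.obj.mapIso eA.op) (by
      show F.obj.map a.op ≫ F.obj.map eA.hom.op = F.obj.map eB.hom.op ≫ F.obj.map a'.op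
      rw [← F.obj.map_comp, ← F.obj.map_comp, ← op_comp, ← op_comp, w]))
    (fun {F G} f => by
      apply (cancel_mono (kernel.ι (G.obj.map a'.op))).1
      simp [secK])

variable (j : U ⟶ X) [IsOpenImmersion j]

/-- The trace of the open on the final object. -/
noncomputable abbrev openMap :
    (EtShriek.compEtale j).obj ((EtCoh.bc j).obj (EtCoh.top X)) ⟶ EtCoh.top X :=
  (compBcAdj j).counit.app (EtCoh.top X)

/-- Global sections with supports are sections over the final object vanishing on the open. -/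
noncomputable def gammaIso : EtDual.gammaSupp j ≅ secK (openMap j) :=
  Functor.isoWhiskerRight (secRIso j).symm (evS (EtCoh.top X)) ≪≫
    NatIso.ofComponents (fun F => PreservesKernel.iso (evS (EtCoh.top X)) (unitR j F) ≪≫
        kernel.mapIso _ _ (Iso.refl _) (Iso.refl _) (by
          rw [Iso.refl_hom, Iso.refl_hom, Category.id_comp, Category.comp_id]
          rfl))
      (fun {F G} f => by
        apply (cancel_mono (kernel.ι _)).1
        simp [secR, secK]
        erw [kernelComparison_comp_ι (unitR j G) (evS (EtCoh.top X)),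
          kernelComparison_comp_ι_assoc (unitR j F) (evS (EtCoh.top X))]
        exact ((evS (EtCoh.top X)).map_comp _ _).symm.trans
          ((congrArg (evS (EtCoh.top X)).map (kernel.lift_ι _ _ _)).trans ((evS (EtCoh.top X)).map_comp _ f)))

theorem surjective_unit_top (I : EtCoh.Ab X) [Injective I] :
    Function.Surjective ((EtDual.unitApp j I).hom.app (op (EtCoh.top X))) := by
  rw [← unitR_pull j I]
  let c := openMap j
  haveI : Mono c := by
    refine ⟨fun {Z} a b h => MorphismProperty.Over.Hom.ext ?_⟩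
    haveI : Mono (pullback.fst (EtCoh.top X).hom j) := inferInstance
    exact (cancel_mono (pullback.fst (EtCoh.top X).hom j)).1 (congrArg (fun t => t.left) h)
  intro s
  let e := ((EtCoh.push j).mapIso ((restrPullIso j).app I))
  obtain ⟨t, ht⟩ := EtStalk.surjective_map_of_injective I c (e.inv.hom.app (op (EtCoh.top X)) s)
  refine ⟨t, ?_⟩
  show e.hom.hom.app (op (EtCoh.top X)) ((unitR j I).hom.app (op (EtCoh.top X)) t) = s
  rw [show (unitR j I).hom.app (op (EtCoh.top X)) t = e.inv.hom.app (op (EtCoh.top X)) s from ht]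
  exact congr($(e.inv_hom_id).hom.app (op (EtCoh.top X)) s)

theorem acy_secSupp (I : EtCoh.Ab X) [Injective I] :
    RDEdge19.Acy (evS (EtCoh.top X)) ((EtDual.secSupp j).obj I) := by
  let Γ := evS (EtCoh.top X)
  haveI := LocCoh24.epi_unit_injective j I
  let S := ShortComplex.mk (kernel.ι (EtDual.unitApp j I)) (EtDual.unitApp j I) (kernel.condition _)
  have hS : S.ShortExact := { exact := ShortComplex.exact_of_f_is_kernel _ (kernelIsKernel _) }
  haveI : Injective ((EtCoh.pull j).obj I) := EtStalk.injective_pull j I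
  haveI : Injective S.X₃ := EtStalk.injective_push j _
  obtain ⟨T⟩ := RDerLES.exists_sesRes hS
  intro q
  obtain ⟨w, he⟩ := (RDerLES.exact_sequences Γ T q (q + 1) rfl).2.2
  obtain ⟨w', he'⟩ := (RDerLES.exact_sequences Γ T q (q + 1) rfl).2.1
  refine he.isZero_of_both_zeros ?_ ((Γ.isZero_rightDerived_obj_injective_succ q I).eq_of_tgt _ _)
  cases q with
  | succ q => exact (Γ.isZero_rightDerived_obj_injective_succ q S.X₃).eq_of_src _ _
  | zero =>
    haveI : Epi (Γ.map S.g) := (AddCommGrpCat.epi_iff_surjective _).2 (surjective_unit_top j I)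
    have h := Γ.rightDerivedZeroIsoSelf.hom.naturality S.g
    haveI : Epi ((Γ.rightDerived 0).map S.g ≫ Γ.rightDerivedZeroIsoSelf.hom.app S.X₃) := h ▸ inferInstance
    haveI : Epi ((Γ.rightDerived 0).map S.g) := by
      have e : (Γ.rightDerived 0).map S.g =
          ((Γ.rightDerived 0).map S.g ≫ Γ.rightDerivedZeroIsoSelf.hom.app S.X₃) ≫
            Γ.rightDerivedZeroIsoSelf.inv.app S.X₃ := by rw [Category.assoc, Iso.hom_inv_id_app, Category.comp_id]
      rw [e]
      infer_instance
    exact zero_of_epi_comp _ w'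

theorem nonempty_HY_iso_sections (F : EtCoh.Ab X) (m : ℕ)
    (h : ∀ q, q < m → IsZero ((EtDual.locCoh j q).obj F)) :
    Nonempty ((EtDual.HY j m).obj F ≅ ((EtDual.locCoh j m).obj F).obj.obj (op (EtCoh.top X))) := by
  obtain ⟨e⟩ := RDEdge19.nonempty_rightDerived_comp_iso (EtDual.secSupp j) (evS (EtCoh.top X))
    (fun I hI => @acy_secSupp _ _ j _ I hI) F m h
  exact ⟨e⟩

theorem isZero_HY (F : EtCoh.Ab X) (m : ℕ)
    (h : ∀ q, q ≤ m → IsZero ((EtDual.locCoh j q).obj F)) :
    IsZero ((EtDual.HY j m).obj F) :=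
  RDEdge19.isZero_rightDerived_comp (EtDual.secSupp j) (evS (EtCoh.top X))
    (fun I hI => @acy_secSupp _ _ j _ I hI) F m h

section Triple

variable {A B C : X.Etale} (a : A ⟶ B) (b : B ⟶ C) [Mono b]

/-- Removing a part which carries no cohomology. -/
theorem nonempty_rightDerived_secK_iso (F : EtCoh.Ab X) (m : ℕ)
    (h₀ : IsZero (((secK b).rightDerived m).obj F)) (h₁ : IsZero (((secK b).rightDerived (m + 1)).obj F)) :
    Nonempty (((secK (a ≫ b)).rightDerived m).obj F ≅ ((secK a).rightDerived m).obj F) := by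
  let ι₁ : secK b ⟶ secK (a ≫ b) :=
    { app := fun G => kernel.map (G.obj.map b.op) (G.obj.map (a ≫ b).op) (𝟙 _) (G.obj.map a.op) (by simp)
      naturality := fun G H f => by
        apply (cancel_mono (kernel.ι _)).1
        simp [secK] }
  let π₂ : secK (a ≫ b) ⟶ secK a :=
    { app := fun G => kernel.map (G.obj.map (a ≫ b).op) (G.obj.map a.op) (G.obj.map b.op) (𝟙 _) (by simp)
      naturality := fun G H f => by
        apply (cancel_mono (kernel.ι _)).1
        simp [secK] }
  let R := injectiveResolution F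
  have hw : ∀ G, ι₁.app G ≫ π₂.app G = 0 := fun G => by
    apply (cancel_mono (kernel.ι _)).1
    simp [ι₁, π₂]
  let S : ShortComplex (CochainComplex AddCommGrpCat.{u + 1} ℕ) :=
    ShortComplex.mk ((NatTrans.mapHomologicalComplex ι₁ _).app R.cocomplex)
      ((NatTrans.mapHomologicalComplex π₂ _).app R.cocomplex) (by
        apply HomologicalComplex.hom_ext
        intro k
        exact hw _)
  have hS : S.ShortExact := by
    refine HomologicalComplex.shortExact_of_degreewise_shortExact S fun k => ?_
    let G := R.cocomplex.X k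
    haveI : Injective G := R.injective k
    show (ShortComplex.mk (ι₁.app G) (π₂.app G) (hw G)).ShortExact
    have hι : ι₁.app G ≫ kernel.ι (G.obj.map (a ≫ b).op) = kernel.ι (G.obj.map b.op) := by simp [ι₁]
    have hπ : π₂.app G ≫ kernel.ι (G.obj.map a.op) = kernel.ι (G.obj.map (a ≫ b).op) ≫ G.obj.map b.op :=
      kernel.lift_ι _ _ _
    haveI : Mono (ι₁.app G ≫ kernel.ι (G.obj.map (a ≫ b).op)) := by rw [hι]; infer_instance
    haveI : Mono (ι₁.app G) := mono_of_mono _ (kernel.ι (G.obj.map (a ≫ b).op))
    refine { exact := ?_, epi_g := ?_ }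
    · refine ShortComplex.exact_of_f_is_kernel _ ?_
      refine KernelFork.IsLimit.ofι' _ (hw G) fun {A'} x hx => ⟨kernel.lift (G.obj.map b.op)
        (x ≫ kernel.ι _) (by rw [Category.assoc, ← hπ]; exact (Category.assoc _ _ _).symm.trans ((congrArg (· ≫ _) hx).trans zero_comp)), ?_⟩
      apply (cancel_mono (kernel.ι (G.obj.map (a ≫ b).op))).1
      rw [Category.assoc, hι, kernel.lift_ι]
    · refine (AddCommGrpCat.epi_iff_surjective _).2 fun s => ?_
      obtain ⟨t, ht⟩ := EtStalk.surjective_map_of_injective G b (kernel.ι (G.obj.map a.op) s)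
      have ht0 : G.obj.map (a ≫ b).op t = 0 := by
        rw [op_comp, Functor.map_comp_apply, ht]
        exact congr($(kernel.condition (G.obj.map a.op)) s)
      refine ⟨(AddCommGrpCat.kernelIsoKer (G.obj.map (a ≫ b).op)).inv ⟨t, ht0⟩, ?_⟩
      apply (AddCommGrpCat.mono_iff_injective (kernel.ι (G.obj.map a.op))).1 inferInstance
      refine (congr($(hπ) ((AddCommGrpCat.kernelIsoKer _).inv ⟨t, ht0⟩))).trans (Eq.trans ?_ ht)
      show G.obj.map b.op ((AddCommGrpCat.kernelIsoKer _).inv ≫ kernel.ι _ $ ⟨t, ht0⟩) = _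
      rw [AddCommGrpCat.kernelIsoKer_inv_comp_ι]
      rfl
  have z₀ : IsZero (S.X₁.homology m) := h₀.of_iso (R.isoRightDerivedObj (secK b) m).symm
  have z₁ : IsZero (S.X₁.homology (m + 1)) := h₁.of_iso (R.isoRightDerivedObj (secK b) (m + 1)).symm
  haveI : Mono (HomologicalComplex.homologyMap S.g m) := (hS.homology_exact₂ m).mono_g (z₀.eq_of_src _ _)
  haveI : Epi (HomologicalComplex.homologyMap S.g m) :=
    (hS.homology_exact₃ m (m + 1) rfl).epi_f (z₁.eq_of_tgt _ _)
  haveI : IsIso (HomologicalComplex.homologyMap S.g m) := isIso_of_mono_of_epi _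
  exact ⟨R.isoRightDerivedObj (secK (a ≫ b)) m ≪≫ asIso (HomologicalComplex.homologyMap S.g m) ≪≫
    (R.isoRightDerivedObj (secK a) m).symm⟩

end Triple

/-- The Tate twist restricts. -/
theorem nonempty_restr_tate (v : U ⟶ X) [AlgebraicGeometry.Etale v] (n : ℕ) :
    ∀ c : ℕ, Nonempty ((EtShriek.restrAlong v).obj (EtDual.tate X n c) ≅ EtDual.tate U n c)
  | 0 => ⟨restrConst v (ZMod n)⟩
  | c + 1 => by
    obtain ⟨e⟩ := nonempty_restr_tate v n c
    exact ⟨restrTensor v _ _ ≪≫ tensorIso e (restrMu v n)⟩

end Groth.Agent.EtLocCoh19
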