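import Groth.Agent.Lib.DGen9.QCD
import Groth.Agent.Lib.EtDesc24.Recollement
import Groth.Agent.Lib.EtStalk.Push
import Groth.Prelude.Def_DCoh2

/-! Complexes supported on a closed subscheme. -/

universe u v w u' v' w'

open CategoryTheory CategoryTheory.Limits AlgebraicGeometry Opposite

attribute [local instance] HasDerivedCategory.standard

namespace Groth.Agent.EtLocCoh19

set_option autoImplicit false
set_option linter.style.haveILetI false
set_option linter.unusedSectionVars false
set_option backward.isDefEq.respectTransparency false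
set_option backward.isDefEq.respectTransparency.types false

theorem nonempty_homology_mapDerived {A : Type u} [Category.{v} A] [Abelian A] [HasDerivedCategory.{w} A]
    {B : Type u'} [Category.{v'} B] [Abelian B] [HasDerivedCategory.{w'} B]
    (F : A ⥤ B) [F.Additive] [PreservesFiniteLimits F] [PreservesFiniteColimits F] (K : DerivedCategory A) (n : ℤ) :
    Nonempty ((DerivedCategory.homologyFunctor B n).obj (F.mapDerivedCategory.obj K) ≅
      F.obj ((DerivedCategory.homologyFunctor A n).obj K)) := by
  let W := DerivedCategory.Q.objPreimage K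
  let e : DerivedCategory.Q.obj W ≅ K := DerivedCategory.Q.objObjPreimageIso K
  let e₁ : ((DerivedCategory.homologyFunctor B n).obj (DerivedCategory.Q.obj
      ((F.mapHomologicalComplex (ComplexShape.up ℤ)).obj W))) ≅ ((W.sc n).map F).homology :=
    (DerivedCategory.homologyFunctorFactors B n).app ((F.mapHomologicalComplex (ComplexShape.up ℤ)).obj W)
  exact ⟨(DerivedCategory.homologyFunctor B n).mapIso
      (F.mapDerivedCategory.mapIso e.symm ≪≫ F.mapDerivedCategoryFactors.app W) ≪≫ e₁ ≪≫
    (W.sc n).mapHomologyIso F ≪≫ F.mapIso (((DerivedCategory.homologyFunctorFactors A n).app W).symm ≪≫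
      (DerivedCategory.homologyFunctor A n).mapIso e)⟩

theorem isZero_of_homology {A : Type u} [Category.{v} A] [Abelian A] [HasDerivedCategory.{w} A]
    (K : DerivedCategory A) (h : ∀ n, IsZero ((DerivedCategory.homologyFunctor A n).obj K)) : IsZero K := by
  haveI : IsIso (0 : K ⟶ K) := by
    rw [DerivedCategory.isIso_iff]
    exact fun n => isIso_of_source_target_iso_zero _ (h n).isoZero (h n).isoZero
  rw [IsZero.iff_id_eq_zero]
  exact (IsIso.hom_inv_id (0 : K ⟶ K)).symm.trans zero_comp

section Etale

variable {Z X U : Scheme.{u}} (i : Z ⟶ X) [IsClosedImmersion i] (j : U ⟶ X) [IsOpenImmersion j]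
  (hZU : Set.range j = (Set.range i)ᶜ) [PreservesFiniteColimits (EtCoh.push i)]

include hZU in
theorem isZero_of_restrictions {F : EtCoh.Ab X} (hi : IsZero ((EtCoh.pull i).obj F))
    (hj : IsZero ((EtCoh.pull j).obj F)) : IsZero F := by
  rw [IsZero.iff_id_eq_zero]
  exact EtDesc24.hom_ext_of_restrictions i j hZU _ _ (hi.eq_of_src _ _) (hj.eq_of_src _ _)

include hZU in
theorem fullFaithful_and_essImage :
    ((EtCoh.push i).mapDerivedCategory.Full ∧ (EtCoh.push i).mapDerivedCategory.Faithful) ∧
      ∀ K : DCoh.DEt X,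
        (EtCoh.push i).mapDerivedCategory.essImage K ↔
          ∀ n : ℤ, IsZero ((EtCoh.pull j).obj (DCoh.HDEt K n)) := by
  haveI : PreservesFiniteLimits (EtCoh.push i) := by
    haveI := (EtCoh.pullPushAdj i).rightAdjoint_preservesLimits
    infer_instance
  haveI : PreservesFiniteColimits (EtCoh.pull i) := by
    haveI := (EtCoh.pullPushAdj i).leftAdjoint_preservesColimits
    infer_instance
  haveI : PreservesFiniteColimits (EtCoh.pull j) := by
    haveI := (EtCoh.pullPushAdj j).leftAdjoint_preservesColimits
    infer_instance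
  haveI : (EtCoh.pull i).Additive := Functor.additive_of_preserves_binary_products _
  haveI : (EtCoh.pull j).Additive := Functor.additive_of_preserves_binary_products _
  let adj := QCD.adjD (EtCoh.pullPushAdj i)
  haveI : ∀ M, IsIso (adj.counit.app M) := fun M => QCD.isIso_counit (EtCoh.pullPushAdj i) M
  haveI : IsIso adj.counit := NatIso.isIso_of_isIso_app _
  refine ⟨⟨adj.fullyFaithfulROfIsIsoCounit.full, adj.fullyFaithfulROfIsIsoCounit.faithful⟩, fun K => ⟨?_, fun h => ?_⟩⟩
  · rintro ⟨L, ⟨e⟩⟩ n
    obtain ⟨h'⟩ := nonempty_homology_mapDerived (EtCoh.push i) L n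
    exact (EtDesc24.isZero_pull_push i j hZU _).of_iso
      ((EtCoh.pull j).mapIso ((DerivedCategory.homologyFunctor (EtCoh.Ab X) n).mapIso e.symm ≪≫ h'))
  · refine ⟨(EtCoh.pull i).mapDerivedCategory.obj K, ⟨Iso.symm (@asIso _ _ _ _ (adj.unit.app K) ?_)⟩⟩
    obtain ⟨C, a, b, hT⟩ := Pretriangulated.distinguished_cocone_triangle (adj.unit.app K)
    refine (Pretriangulated.Triangle.isZero₃_iff_isIso₁ _ hT).1 (isZero_of_homology C fun n => ?_)
    refine isZero_of_restrictions i j hZU ?_ ?_
    · haveI : IsIso ((EtCoh.pull i).mapDerivedCategory.map (adj.unit.app K) ≫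
          adj.counit.app ((EtCoh.pull i).mapDerivedCategory.obj K)) := by
        erw [adj.left_triangle_components K]
        exact IsIso.id _
      haveI : IsIso ((EtCoh.pull i).mapDerivedCategory.map (adj.unit.app K)) :=
        IsIso.of_isIso_comp_right _ (adj.counit.app ((EtCoh.pull i).mapDerivedCategory.obj K))
      have hz : IsZero ((EtCoh.pull i).mapDerivedCategory.obj C) :=
        (Pretriangulated.Triangle.isZero₃_iff_isIso₁ _ ((EtCoh.pull i).mapDerivedCategory.map_distinguished _ hT)).2
          (inferInstanceAs (IsIso ((EtCoh.pull i).mapDerivedCategory.map (adj.unit.app K))))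
      obtain ⟨h'⟩ := nonempty_homology_mapDerived (EtCoh.pull i) C n
      exact ((DerivedCategory.homologyFunctor _ n).map_isZero hz).of_iso h'.symm
    · obtain ⟨h'⟩ := nonempty_homology_mapDerived (EtCoh.push i) ((EtCoh.pull i).mapDerivedCategory.obj K) n
      have z₂ : IsZero ((EtCoh.pull j).obj ((DerivedCategory.homologyFunctor (EtCoh.Ab X) n).obj
          ((EtCoh.push i).mapDerivedCategory.obj ((EtCoh.pull i).mapDerivedCategory.obj K)))) :=
        (EtDesc24.isZero_pull_push i j hZU _).of_iso ((EtCoh.pull j).mapIso h')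
      have hex := DerivedCategory.HomologySequence.exact₃ _ hT n (n + 1) rfl
      exact (hex.map (EtCoh.pull j)).isZero_of_both_zeros (z₂.eq_of_src _ _) ((h (n + 1)).eq_of_tgt _ _)

end Etale

end Groth.Agent.EtLocCoh19
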