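import Groth.Agent.Lib.EtLocCoh19.Global
import Groth.Agent.Lib.EtPic3.Basic
import Mathlib.AlgebraicGeometry.Morphisms.FormallyUnramified
import Mathlib.AlgebraicGeometry.ResidueField

/-! Excision for sections with supports along étale morphisms. -/

universe u

open CategoryTheory CategoryTheory.Limits AlgebraicGeometry Opposite

namespace Groth.Agent.EtLocCoh19

set_option autoImplicit false
set_option linter.style.haveILetI false
set_option backward.isDefEq.respectTransparency false
set_option backward.isDefEq.respectTransparency.types false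

variable {T X' X : Scheme.{u}}

theorem fromSpec_comp_eq (f : X' ⟶ X) (a b : T ⟶ X') (h : a ≫ f = b ≫ f) (p : T) (x' : X')
    (ha : a p = x') (hb : b p = x') (hκ : Function.Surjective (f.residueFieldMap x')) :
    T.fromSpecResidueField p ≫ a = T.fromSpecResidueField p ≫ b := by
  have ga : ∃ α, T.fromSpecResidueField p ≫ a = Spec.map α ≫ X'.fromSpecResidueField x' := by
    subst ha
    exact ⟨a.residueFieldMap p, (a.SpecMap_residueFieldMap_fromSpecResidueField p).symm⟩
  have gb : ∃ β, T.fromSpecResidueField p ≫ b = Spec.map β ≫ X'.fromSpecResidueField x' := by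
    subst hb
    exact ⟨b.residueFieldMap p, (b.SpecMap_residueFieldMap_fromSpecResidueField p).symm⟩
  obtain ⟨α, hα⟩ := ga
  obtain ⟨β, hβ⟩ := gb
  haveI : Epi (f.residueFieldMap x') := ConcreteCategory.epi_of_surjective _ hκ
  have e : Spec.map (f.residueFieldMap x' ≫ α) = Spec.map (f.residueFieldMap x' ≫ β) := by
    rw [← cancel_mono (X.fromSpecResidueField (f x')), Spec.map_comp, Spec.map_comp, Category.assoc,
      Category.assoc, f.SpecMap_residueFieldMap_fromSpecResidueField, ← Category.assoc, ← hα,
      Category.assoc, h, ← Category.assoc, hβ, Category.assoc]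
  rw [hα, hβ, (cancel_epi (f.residueFieldMap x')).1 (Spec.map_injective e)]

/-- The point lies in the locus where the two maps agree. -/
theorem exists_preimage_diagonal (f : X' ⟶ X) (a b : T ⟶ X') (h : a ≫ f = b ≫ f) (p : T) (x' : X')
    (ha : a p = x') (hb : b p = x') (hκ : Function.Surjective (f.residueFieldMap x')) :
    ∃ z, pullback.fst (pullback.lift a b h) (pullback.diagonal f) z = p := by
  let x := Nonempty.some (inferInstance : Nonempty (Spec (T.residueField p)))
  have hp : T.fromSpecResidueField p x = p := Scheme.fromSpecResidueField_apply p x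
  have e : T.fromSpecResidueField p ≫ pullback.lift a b h = (T.fromSpecResidueField p ≫ a) ≫ pullback.diagonal f := by
    apply pullback.hom_ext
    · simp
    · simp [fromSpec_comp_eq f a b h p x' ha hb hκ]
  obtain ⟨z, hz, -⟩ := Scheme.Pullback.exists_preimage_pullback (f := pullback.lift a b h) (g := pullback.diagonal f)
    p ((T.fromSpecResidueField p ≫ a) x) (by
      have := congrArg (fun t => t x) (congrArg (fun t => t.base) e)
      simpa [hp] using this)
  exact ⟨z, hz⟩

section Main

variable {U U' : Scheme.{u}} (f : X' ⟶ X) [AlgebraicGeometry.Etale f] (j : U ⟶ X) [IsOpenImmersion j]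
  (j' : U' ⟶ X') [IsOpenImmersion j']

theorem nonempty_secK_excision
    (hU' : Set.range j'.base = f.base ⁻¹' Set.range j.base)
    (hZ : Set.BijOn f.base (Set.range j'.base)ᶜ (Set.range j.base)ᶜ)
    (hκ : ∀ x' : ↥X', x' ∉ Set.range j'.base → Function.Surjective (f.residueFieldMap x'))
    (a' : Scheme.Etale.mk (j' ≫ f) ⟶ Scheme.Etale.mk f) (ha' : a'.left = j') :
    Nonempty (secK (EtPic3.toTop (Scheme.Etale.mk j)) ≅ secK a') := by
  let oU : X.Etale := Scheme.Etale.mk j
  let oX : X.Etale := Scheme.Etale.mk f
  let oV : X.Etale := Scheme.Etale.mk (j' ≫ f)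
  let τ : oX ⟶ EtCoh.top X := EtPic3.toTop oX
  let α : oV ⟶ oU := MorphismProperty.Over.homMk
    (IsOpenImmersion.lift j (j' ≫ f) (by
      rintro _ ⟨z, rfl⟩
      exact (Set.ext_iff.1 hU' (j'.base z)).1 ⟨z, rfl⟩)) (IsOpenImmersion.lift_fac _ _ _)
  let φ : secK (EtPic3.toTop oU) ⟶ secK a' :=
    { app := fun G => kernel.map _ _ (G.obj.map τ.op) (G.obj.map α.op) (by
        rw [← G.obj.map_comp, ← G.obj.map_comp, ← op_comp, ← op_comp,
          EtPic3.hom_ext_top (α ≫ EtPic3.toTop oU) (a' ≫ τ)])
      naturality := fun G H g => by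
        apply (cancel_mono (kernel.ι _)).1
        simp [secK] }
  suffices h : ∀ G, IsIso (φ.app G) by
    haveI := h
    exact ⟨NatIso.ofComponents (fun G => asIso (φ.app G)) (fun g => φ.naturality g)⟩
  intro G
  have hι : φ.app G ≫ kernel.ι (G.obj.map a'.op) = kernel.ι (G.obj.map (EtPic3.toTop oU).op) ≫ G.obj.map τ.op :=
    kernel.lift_ι _ _ _
  have kz : ∀ {A B : X.Etale} (m : A ⟶ B) (s : ↑(kernel (G.obj.map m.op))),
      G.obj.map m.op (kernel.ι (G.obj.map m.op) s) = 0 := fun m s =>
    congr($(kernel.condition (G.obj.map m.op)) s)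
  let Z : PUnit.{u + 1} ⊕ PUnit.{u + 1} → X.Etale := fun i => Sum.elim (fun _ => oU) (fun _ => oX) i
  let g : ∀ i, Z i ⟶ EtCoh.top X := fun i => EtPic3.toTop (Z i)
  have hcov : ∀ x : (EtCoh.top X).left, ∃ i z, (g i).left z = x := fun x => by
    by_cases hx : x ∈ Set.range j.base
    · obtain ⟨z, rfl⟩ := hx
      exact ⟨.inl ⟨⟩, z, rfl⟩
    · obtain ⟨z, -, rfl⟩ := hZ.surjOn hx
      exact ⟨.inr ⟨⟩, z, rfl⟩
  rw [ConcreteCategory.isIso_iff_bijective]
  constructor
  · refine (injective_iff_map_eq_zero _).2 fun s hs => ?_
    apply (AddCommGrpCat.mono_iff_injective (kernel.ι (G.obj.map (EtPic3.toTop oU).op))).1 inferInstance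
    rw [map_zero]
    refine EtPic3.sect_ext G g hcov fun i => ?_
    rw [map_zero]
    rcases i with _ | _
    · exact kz _ s
    · exact (congr($(hι) s)).symm.trans ((congrArg (fun q => kernel.ι (G.obj.map a'.op) q) hs).trans (map_zero (kernel.ι (G.obj.map a'.op)).hom))
  · intro s'
    let s₁ := kernel.ι (G.obj.map a'.op) s'
    have hvan : ∀ {W : X.Etale} (t : W ⟶ oX), (∀ z, t.left z ∈ Set.range j'.base) → G.obj.map t.op s₁ = 0 := by
      intro W t ht
      let l : W ⟶ oV := MorphismProperty.Over.homMk
        (IsOpenImmersion.lift j' t.left (by rintro _ ⟨z, rfl⟩; exact ht z))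
        (show IsOpenImmersion.lift j' t.left _ ≫ j' ≫ f = W.hom by
          rw [IsOpenImmersion.lift_fac_assoc]; exact MorphismProperty.Over.w t)
      have hl : t = l ≫ a' := EtPic3.hom_ext (by
        show t.left = IsOpenImmersion.lift j' t.left _ ≫ a'.left
        rw [ha', IsOpenImmersion.lift_fac])
      rw [hl, ← EtPic3.map_map, kz a' s', map_zero]
    obtain ⟨S, hS⟩ := EtPic3.exists_glue G g hcov
      (fun i => match i with | .inl _ => 0 | .inr _ => s₁) (by
      intro i k W a b hab
      rcases i with _ | _ <;> rcases k with _ | _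
      · simp
      · refine (map_zero _).trans (hvan b fun z => ?_).symm
        refine (Set.ext_iff.1 hU' _).2 ⟨a.left z, ?_⟩
        exact congrArg (fun q => q z) (congrArg (fun q => q.base)
          ((MorphismProperty.Over.w a).trans (MorphismProperty.Over.w b).symm))
      · refine (hvan a fun z => ?_).trans (map_zero _).symm
        refine (Set.ext_iff.1 hU' _).2 ⟨b.left z, ?_⟩
        exact congrArg (fun q => q z) (congrArg (fun q => q.base)
          ((MorphismProperty.Over.w b).trans (MorphismProperty.Over.w a).symm))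
      · haveI : AlgebraicGeometry.Etale W.hom := W.prop
        have hw : a.left ≫ f = b.left ≫ f := (MorphismProperty.Over.w a).trans (MorphismProperty.Over.w b).symm
        let O : W.left.Opens := W.hom ⁻¹ᵁ j.opensRange
        let W₁ : X.Etale := Scheme.Etale.mk (O.ι ≫ W.hom)
        let d := pullback.fst (pullback.lift a.left b.left hw) (pullback.diagonal f)
        let W₂ : X.Etale := Scheme.Etale.mk (d ≫ W.hom)
        let Y : PUnit.{u + 1} ⊕ PUnit.{u + 1} → X.Etale := fun i => Sum.elim (fun _ => W₁) (fun _ => W₂) i
        let y : ∀ i, Y i ⟶ W := fun i => match i with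
          | .inl _ => MorphismProperty.Over.homMk O.ι rfl
          | .inr _ => MorphismProperty.Over.homMk d rfl
        refine EtPic3.sect_ext G y (fun p => ?_) fun i => ?_
        · by_cases hp : p ∈ O
          · exact ⟨.inl ⟨⟩, ⟨p, hp⟩, rfl⟩
          · have hfa : f.base (a.left p) = W.hom.base p :=
              congrArg (fun q => q p) (congrArg (fun q => q.base) (MorphismProperty.Over.w a))
            have hfb : f.base (b.left p) = W.hom.base p :=
              congrArg (fun q => q p) (congrArg (fun q => q.base) (MorphismProperty.Over.w b))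
            have hna : a.left p ∉ Set.range j'.base := fun h => hp (by
              have h2 := (Set.ext_iff.1 hU' _).1 h
              rw [Set.mem_preimage, hfa] at h2
              exact h2)
            have hnb : b.left p ∉ Set.range j'.base := fun h => hp (by
              have h2 := (Set.ext_iff.1 hU' _).1 h
              rw [Set.mem_preimage, hfb] at h2
              exact h2)
            obtain ⟨z, hz⟩ := exists_preimage_diagonal f a.left b.left hw p _ rfl
              (hZ.injOn hnb hna (hfb.trans hfa.symm)) (hκ _ hna)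
            exact ⟨.inr ⟨⟩, z, hz⟩
        · rw [EtPic3.map_map, EtPic3.map_map]
          rcases i with _ | _
          · have hU₁ : ∀ (c : W ⟶ oX) (z : O.toScheme), c.left (O.ι z) ∈ Set.range j'.base := fun c z => by
              refine (Set.ext_iff.1 hU' _).2 ?_
              rw [Set.mem_preimage]
              have := congrArg (fun q => q (O.ι z)) (congrArg (fun q => q.base) (MorphismProperty.Over.w c))
              exact this ▸ z.2
            exact (hvan _ fun z => hU₁ a z).trans (hvan _ fun z => hU₁ b z).symm
          · refine EtPic3.map_eq_map G (EtPic3.hom_ext ?_) _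
            show d ≫ a.left = d ≫ b.left
            have c := pullback.condition (f := pullback.lift a.left b.left hw) (g := pullback.diagonal f)
            have c1 := congrArg (· ≫ pullback.fst f f) c
            have c2 := congrArg (· ≫ pullback.snd f f) c
            simp only [Category.assoc, pullback.lift_fst, pullback.lift_snd, pullback.diagonal_fst,
              pullback.diagonal_snd] at c1 c2
            exact c1.trans c2.symm)
    refine ⟨(AddCommGrpCat.kernelIsoKer (G.obj.map (EtPic3.toTop oU).op)).inv ⟨S, hS (.inl ⟨⟩)⟩, ?_⟩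
    apply (AddCommGrpCat.mono_iff_injective (kernel.ι (G.obj.map a'.op))).1 inferInstance
    refine (congr($(hι) ((AddCommGrpCat.kernelIsoKer _).inv ⟨S, hS (.inl ⟨⟩)⟩))).trans (Eq.trans ?_ (hS (.inr ⟨⟩)))
    show G.obj.map τ.op ((AddCommGrpCat.kernelIsoKer _).inv ≫ kernel.ι _ $ ⟨S, _⟩) = _
    rw [AddCommGrpCat.kernelIsoKer_inv_comp_ι]
    rfl

end Main

end Groth.Agent.EtLocCoh19
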