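import Groth.Agent.Lib.EtBCQ24.EtaleBC
import Groth.Agent.Lib.EtSite.Sheaf
import Groth.Agent.Lib.EtPic3.Basic
import Groth.Agent.Lib.BigSite16.BaseChange
import Groth.Prelude.Def_EtDual
import Groth.Prelude.Def_EtCore
import Groth.Agent.Lib.EtStalk.Pull
import Mathlib.CategoryTheory.Sites.PreservesSheafification
import Mathlib.CategoryTheory.Sites.CoverLifting

/-! Sections with supports and restriction along étale morphisms. -/

universe u

open CategoryTheory CategoryTheory.Limits AlgebraicGeometry Opposite

namespace Groth.Agent.EtLocCoh19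

open Groth.Agent.EtStalk Groth.Agent.EtBCQ24

set_option autoImplicit false
set_option linter.style.haveILetI false
set_option linter.unusedSectionVars false
set_option backward.isDefEq.respectTransparency false
set_option backward.isDefEq.respectTransparency.types false

variable {X U V T : Scheme.{u}}

theorem isCocontinuous_compEtale (v : V ⟶ X) [hv : AlgebraicGeometry.Etale v] :
    (EtShriek.compEtale v).IsCocontinuous V.smallEtaleTopology X.smallEtaleTopology := by
  refine ⟨fun {W} R hR => ?_⟩
  rw [EtSite.mem_et_iff] at hR ⊢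
  intro x
  obtain ⟨Y, g, y, hg, hy⟩ := hR x
  have hY : EtCoh.etaleMP ((g.left ≫ W.hom) ≫ v) := by
    have e : g.left ≫ W.hom ≫ v = Y.hom := MorphismProperty.Over.w g
    rw [Category.assoc, e]; exact Y.prop
  let Y' : V.Etale := MorphismProperty.Over.mk ⊤ (g.left ≫ W.hom)
    (EtCoh.etaleMP.of_postcomp (W' := EtCoh.etaleMP) (g.left ≫ W.hom) v hv hY)
  let g' : Y' ⟶ W := MorphismProperty.Over.homMk g.left rfl
  let e : (EtShriek.compEtale v).obj Y' ⟶ Y := MorphismProperty.Over.homMk (𝟙 _)
    ((Category.id_comp Y.hom).trans ((MorphismProperty.Over.w g).symm.trans (Category.assoc _ _ _).symm))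
  refine ⟨Y', g', y, ?_, hy⟩
  show R.arrows ((EtShriek.compEtale v).map g')
  rw [show (EtShriek.compEtale v).map g' = e ≫ g from MorphismProperty.Over.Hom.ext (Category.id_comp _).symm]
  exact R.downward_closed hg e

variable (v : V ⟶ X) [AlgebraicGeometry.Etale v]

/-- Restriction commutes with tensor products. -/
noncomputable def restrTensor [EtShriek.JCont v] (F G : EtCoh.Ab X) :
    (EtShriek.restrAlong v).obj (EtDual.tensorAb F G) ≅
      EtDual.tensorAb ((EtShriek.restrAlong v).obj F) ((EtShriek.restrAlong v).obj G) :=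
  haveI := isCocontinuous_compEtale v
  ((EtShriek.compEtale v).pushforwardContinuousSheafificationCompatibility AddCommGrpCat.{u + 1}
      V.smallEtaleTopology X.smallEtaleTopology).symm.app (EtDual.tensorPre F G) ≪≫
    (presheafToSheaf _ _).mapIso (NatIso.ofComponents (fun W => Iso.refl _) (fun f => by
      simp only [Iso.refl_hom, Category.comp_id, Category.id_comp]
      rfl))

/-- Restriction of a constant sheaf. -/
noncomputable def restrConst [EtShriek.JCont v] (M : Type) [AddCommGroup M] :
    (EtShriek.restrAlong v).obj (EtCoh.const X M) ≅ EtCoh.const V M :=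
  (restrPullIso v).app _ ≪≫ EtCore.pullConst v M

/-- A sheaf with trivial restrictions to a covering is trivial. -/
theorem isZero_of_cover (H : EtCoh.Ab X)
    (h : ∀ x : X, ∃ (V : Scheme.{u}) (v : V ⟶ X) (_ : AlgebraicGeometry.Etale v),
      x ∈ Set.range v ∧ IsZero ((EtShriek.restrAlong v).obj H)) : IsZero H := by
  choose V v hv hx hz using h
  rw [IsZero.iff_id_eq_zero]
  ext W s
  haveI := hv
  let Wx : X → X.Etale := fun x => (EtShriek.compEtale (v x)).obj ((EtCoh.bc (v x)).obj W.unop)
  let fx : ∀ x, Wx x ⟶ W.unop := fun x => (compBcAdj (v x)).counit.app W.unop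
  show (s : H.obj.obj (op W.unop)) = (0 : H.obj.obj (op W.unop))
  refine EtPic3.sect_ext H (U := W.unop) fx (fun w => ?_) fun x => ?_
  · obtain ⟨y, hy⟩ := hx (W.unop.hom w)
    obtain ⟨z, hz₁, -⟩ := Scheme.Pullback.exists_preimage_pullback
      (f := W.unop.hom) (g := v (W.unop.hom w)) w y hy.symm
    refine ⟨W.unop.hom w, z, ?_⟩
    show ((compBcAdj (v (W.unop.hom w))).counit.app W.unop).left z = w
    rw [EtBCQ24.counit_fst]
    exact hz₁
  · have hz' := (IsZero.iff_id_eq_zero _).1 (hz x)
    have h0 : ∀ t : H.obj.obj (op (Wx x)), t = 0 := fun t =>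
      congr($(hz').hom.app (op ((EtCoh.bc (v x)).obj W.unop)) t)
    exact (h0 _).trans (h0 _).symm

/-! ### Sections with supports, through restriction -/

variable (j : U ⟶ X) [AlgebraicGeometry.Etale j]

/-- The unit of restriction and direct image. -/
noncomputable abbrev unitR (F : EtCoh.Ab X) : F ⟶ (EtCoh.push j).obj ((EtShriek.restrAlong j).obj F) :=
  (restrPushAdj j).unit.app F

/-- Sections with support off `U`, through restriction. -/
noncomputable def secR : EtCoh.Ab X ⥤ EtCoh.Ab X where
  obj F := kernel (unitR j F)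
  map {F G} f := kernel.map (unitR j F) (unitR j G) f
    ((EtCoh.push j).map ((EtShriek.restrAlong j).map f)) ((restrPushAdj j).unit.naturality f).symm
  map_id F := by
    apply (cancel_mono (kernel.ι (unitR j F))).1
    simp
  map_comp f g := by
    apply (cancel_mono (kernel.ι (unitR j _))).1
    simp

instance : (secR j).Additive where
  map_add {F G f g} := by
    apply (cancel_mono (kernel.ι (unitR j G))).1
    erw [Preadditive.add_comp]
    simp [secR, Preadditive.comp_add]

theorem unitR_pull (F : EtCoh.Ab X) :
    unitR j F ≫ (EtCoh.push j).map ((restrPullIso j).hom.app F) = EtDual.unitApp j F :=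
  (restrPushAdj j).unit_leftAdjointUniq_hom_app (EtCoh.pullPushAdj j) F

/-- The two descriptions of sections with supports agree. -/
noncomputable def secRIso : secR j ≅ EtDual.secSupp j :=
  NatIso.ofComponents (fun F => kernel.mapIso (unitR j F) (EtDual.unitApp j F) (Iso.refl _)
      ((EtCoh.push j).mapIso ((restrPullIso j).app F)) (by
        rw [Iso.refl_hom, Category.id_comp]
        exact unitR_pull j F))
    (fun f => by
      apply (cancel_mono (kernel.ι (EtDual.unitApp j _))).1
      simp [secR])

variable {j} {j' : T ⟶ V} [AlgebraicGeometry.Etale j'] {t : T ⟶ U} [AlgebraicGeometry.Etale t]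

/-- The square of composition functors. -/
noncomputable def squareIso (c : IsPullback t j' j v) :
    EtShriek.compEtale v ⋙ EtCoh.bc j ⋙ EtShriek.compEtale j ≅
      EtCoh.bc j' ⋙ EtShriek.compEtale j' ⋙ EtShriek.compEtale v :=
  NatIso.ofComponents (fun W => MorphismProperty.Over.isoMk (isPullback_secObj j v j' t c W).isoPullback.symm (by
      show (isPullback_secObj j v j' t c W).isoPullback.inv ≫ (pullback.snd W.hom j' ≫ j') ≫ v =
        pullback.snd (W.hom ≫ v) j ≫ j
      rw [← IsPullback.isoPullback_inv_snd (isPullback_secObj j v j' t c W), Category.assoc, Category.assoc,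
        Category.assoc, c.w]))
    (fun {W₁ W₂} φ => by
      apply MorphismProperty.Over.Hom.ext
      rw [left_comp, left_comp]
      apply (isPullback_secObj j v j' t c W₂).hom_ext
      · simp [EtCoh.bc, EtShriek.compEtale]
        exact pullback.lift_fst _ _ _
      · simp [EtCoh.bc, EtShriek.compEtale]
        exact pullback.lift_snd _ _ _)

theorem squareIso_fst (c : IsPullback t j' j v) (W : V.Etale) :
    ((squareIso v c).hom.app W).left ≫ pullback.fst W.hom j' = pullback.fst (W.hom ≫ v) j := by
  simp [squareIso]

/-- The comparison of the targets. -/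
noncomputable def tgtIso (c : IsPullback t j' j v) (F : EtCoh.Ab X) :
    (EtShriek.restrAlong v).obj ((EtCoh.push j).obj ((EtShriek.restrAlong j).obj F)) ≅
      (EtCoh.push j').obj ((EtShriek.restrAlong j').obj ((EtShriek.restrAlong v).obj F)) :=
  (fullyFaithfulSheafToPresheaf V.smallEtaleTopology AddCommGrpCat.{u + 1}).preimageIso
    (Functor.isoWhiskerRight (NatIso.op (squareIso v c)).symm F.obj)

theorem restr_unitR (c : IsPullback t j' j v) (F : EtCoh.Ab X) :
    (EtShriek.restrAlong v).map (unitR j F) ≫ (tgtIso v c F).hom =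
      unitR j' ((EtShriek.restrAlong v).obj F) := by
  apply (sheafToPresheaf _ _).map_injective
  ext W : 2
  show F.obj.map ((compBcAdj j).counit.app ((EtShriek.compEtale v).obj W.unop)).op ≫
      F.obj.map ((squareIso v c).inv.app W.unop).op =
    F.obj.map ((EtShriek.compEtale v).map ((compBcAdj j').counit.app W.unop)).op
  rw [← F.obj.map_comp, ← op_comp]
  refine congrArg (fun z => F.obj.map (Quiver.Hom.op z)) ?_
  rw [← cancel_epi ((squareIso v c).hom.app W.unop), Iso.hom_inv_id_app_assoc]
  apply MorphismProperty.Over.Hom.ext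
  rw [left_comp, counit_fst]
  show bcFst j _ = ((squareIso v c).hom.app W.unop).left ≫ ((compBcAdj j').counit.app W.unop).left
  rw [counit_fst]
  exact (squareIso_fst v c W.unop).symm

instance preservesFiniteLimits_restr : PreservesFiniteLimits (EtShriek.restrAlong v) := by
  haveI : PreservesFiniteLimits (EtCoh.pull v) := EtStalk.preservesFiniteLimits_pull v
  exact preservesFiniteLimits_of_natIso (restrPullIso v).symm

instance preservesFiniteColimits_restr : PreservesFiniteColimits (EtShriek.restrAlong v) := by
  haveI : (EtShriek.restrAlong v).IsLeftAdjoint := (restrPushAdj v).isLeftAdjoint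
  infer_instance

/-- Sections with supports commute with étale restriction. -/
noncomputable def secRSquare (c : IsPullback t j' j v) :
    secR j ⋙ EtShriek.restrAlong v ≅ EtShriek.restrAlong v ⋙ secR j' :=
  NatIso.ofComponents (fun F => PreservesKernel.iso (EtShriek.restrAlong v) (unitR j F) ≪≫
      kernel.mapIso _ _ (Iso.refl _) (tgtIso v c F) (by
        rw [Iso.refl_hom, Category.id_comp]
        exact restr_unitR v c F))
    (fun {F G} f => by
      apply (cancel_mono (kernel.ι (unitR j' _))).1
      simp [secR])

variable (j)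

theorem nonempty_locCoh_iso_secR (p : ℕ) (F : EtCoh.Ab X) :
    Nonempty ((EtDual.locCoh j p).obj F ≅ ((secR j).rightDerived p).obj F) :=
  ⟨(RDer.rightDerivedIso (secRIso j) p).symm.app F⟩

variable {j}

/-- Local cohomology sheaves commute with étale restriction. -/
theorem nonempty_locCoh_restr (c : IsPullback t j' j v) (p : ℕ) (F : EtCoh.Ab X) :
    Nonempty ((EtShriek.restrAlong v).obj ((EtDual.locCoh j p).obj F) ≅
      (EtDual.locCoh j' p).obj ((EtShriek.restrAlong v).obj F)) := by
  obtain ⟨e₀⟩ := nonempty_locCoh_iso_secR j p F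
  obtain ⟨e₁⟩ := BigSite16.nonempty_rightDerived_comp (secR j) (EtShriek.restrAlong v) F p
  obtain ⟨e₂⟩ := BigSite16.nonempty_rightDerived_precomp (EtShriek.restrAlong v) (secR j')
    (fun I _ => EtStalk.injective_restrAlong v I) F p
  obtain ⟨e₃⟩ := nonempty_locCoh_iso_secR j' p ((EtShriek.restrAlong v).obj F)
  exact ⟨(EtShriek.restrAlong v).mapIso e₀ ≪≫ e₁ ≪≫ (RDer.rightDerivedIso (secRSquare v c) p).app F ≪≫
    e₂.symm ≪≫ e₃.symm⟩

end Groth.Agent.EtLocCoh19
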