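import Groth.Agent.Lib.EtLocCoh19.Restr
import Groth.Agent.Lib.NormSep24.DenseOpen
import Groth.Agent.Lib.Kummer24.MuConst
import Groth.Agent.Lib.Azumaya.EtaleSub
import Groth.Agent.Lib.FieldH25.CohDim
import Mathlib.RingTheory.RingHom.FaithfullyFlat

/-! Tate twists are locally constant. -/

universe u

open CategoryTheory CategoryTheory.Limits AlgebraicGeometry Opposite TensorProduct

namespace Groth.Agent.EtLocCoh19

open Groth.Agent.NormSep24 (cst cst_res cst_injective exists_value value_unique res_res)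

set_option autoImplicit false
set_option linter.style.haveILetI false
set_option linter.unusedSectionVars false
set_option backward.isDefEq.respectTransparency false
set_option backward.isDefEq.respectTransparency.types false

variable {X V : Scheme.{u}} (n : ℕ)

/-- The generator of the constant sheaf. -/
noncomputable def gen (W : X.Etale) : (EtCoh.const X (ZMod n)).obj.obj (op W) := cst (ZMod n) W ⟨1⟩

theorem gen_res {W W' : X.Etale} (g : W' ⟶ W) : (EtCoh.const X (ZMod n)).obj.map g.op (gen n W) = gen n W' :=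
  cst_res (ZMod n) g ⟨1⟩

theorem cst_add (W : X.Etale) (a b : ULift.{u + 1} (ZMod n)) :
    cst (ZMod n) W (a + b) = cst (ZMod n) W a + cst (ZMod n) W b :=
  map_add ((toSheafify X.smallEtaleTopology
    ((Functor.const X.Etaleᵒᵖ).obj (AddCommGrpCat.of (ULift.{u + 1} (ZMod n))))).app (op W)).hom a b

theorem cst_zero (W : X.Etale) : cst (ZMod n) W 0 = 0 :=
  map_zero ((toSheafify X.smallEtaleTopology
    ((Functor.const X.Etaleᵒᵖ).obj (AddCommGrpCat.of (ULift.{u + 1} (ZMod n))))).app (op W)).hom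

/-- The value of a section at a point. -/
theorem exists_valueHom (W : X.Etale) (z : W.left) :
    ∃ χ : (EtCoh.const X (ZMod n)).obj.obj (op W) →+ ULift.{u + 1} (ZMod n), χ (gen n W) = ⟨1⟩ := by
  choose Y f m hz hm using fun s => exists_value (ZMod n) W s z
  refine ⟨AddMonoidHom.mk' m fun a b => ?_, ?_⟩
  · obtain ⟨ya, hya⟩ := hz a
    obtain ⟨yb, hyb⟩ := hz b
    obtain ⟨P, p₁, p₂, w, hp, hw₁, -⟩ := NormSep24.exists_common (f a) (f b) ya yb (hya.trans hyb.symm)
    refine value_unique (ZMod n) (f (a + b)) (p₁ ≫ f a) (m (a + b)) (m a + m b) (a + b) (hm _) ?_ (hz _) ?_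
    · rw [cst_add, map_add]
      refine congrArg₂ (· + ·) ?_ ?_
      · rw [← res_res, ← hm a, cst_res]
      · rw [hp, ← res_res, ← hm b, cst_res]
    · exact ⟨w, (congrArg (f a).left hw₁).trans hya⟩
  · show m (gen n W) = ⟨1⟩
    refine value_unique (ZMod n) (f (gen n W)) (𝟙 W) (m (gen n W)) ⟨1⟩ (gen n W) (hm _) ?_ (hz _) ⟨z, rfl⟩
    exact (cst_res (ZMod n) (𝟙 W) ⟨1⟩).symm

variable {n} (F : EtCoh.Ab X)

/-- Tensoring with the generator. -/
noncomputable def genTensor : F.obj ⟶ EtDual.tensorPre F (EtCoh.const X (ZMod n)) where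
  app W := AddCommGrpCat.ofHom
    { toFun := fun x => x ⊗ₜ[ℤ] gen n W.unop
      map_zero' := TensorProduct.zero_tmul _ _
      map_add' := fun x y => TensorProduct.add_tmul _ _ _ }
  naturality W W' g := by
    ext x
    show F.obj.map g x ⊗ₜ[ℤ] gen n W'.unop = TensorProduct.map _ _ (x ⊗ₜ[ℤ] gen n W.unop)
    rw [TensorProduct.map_tmul]
    exact congrArg (fun t => F.obj.map g x ⊗ₜ[ℤ] t) (gen_res n g.unop).symm

theorem genTensor_injective (hn : n ≠ 0) (hF : n • 𝟙 F = 0) (W : X.Etale) :
    Function.Injective ((genTensor (n := n) F).app (op W)) := by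
  rw [injective_iff_map_eq_zero]
  intro x hx
  rcases isEmpty_or_nonempty W.left with hW | ⟨⟨z⟩⟩
  · exact NormSep24.eq_of_isEmpty F hW x 0
  obtain ⟨χ, hχ⟩ := exists_valueHom n W z
  have hk : ∀ y : F.obj.obj (op W), n • y = 0 := fun y => by
    have h := congr($(hF).hom.app (op W) y)
    exact h
  letI : Module (ZMod n) (F.obj.obj (op W)) := AddCommGroup.zmodModule hk
  let β : F.obj.obj (op W) →ₗ[ℤ] ULift.{u + 1} (ZMod n) →ₗ[ℤ] F.obj.obj (op W) :=
    LinearMap.mk₂ ℤ (fun y a => a.down • y) (fun y y' a => smul_add _ _ _)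
      (fun c y a => smul_comm _ _ _) (fun y a a' => add_smul _ _ _)
      (fun c y a => smul_assoc c a.down y)
  have h := congrArg (TensorProduct.lift β ∘ₗ TensorProduct.map LinearMap.id χ.toIntLinearMap)
    (show x ⊗ₜ[ℤ] gen n W = 0 from hx)
  rw [map_zero, LinearMap.comp_apply, TensorProduct.map_tmul, TensorProduct.lift.tmul] at h
  simp only [LinearMap.id_apply, AddMonoidHom.coe_toIntLinearMap, hχ, β, LinearMap.mk₂_apply, one_smul] at h
  exact h

theorem genTensor_surjective (hn : n ≠ 0) :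
    Presheaf.IsLocallySurjective X.smallEtaleTopology (genTensor (n := n) F) := by
  haveI : NeZero n := ⟨hn⟩
  refine ⟨fun {W} (t : (F.obj.obj (op W) ⊗[ℤ] (EtCoh.const X (ZMod n)).obj.obj (op W))) => ?_⟩
  induction t using TensorProduct.induction_on with
  | zero =>
    refine X.smallEtaleTopology.superset_covering (fun Y g _ => ?_) (X.smallEtaleTopology.top_mem _)
    exact ⟨0, (map_zero _).trans (map_zero _).symm⟩
  | tmul x s =>
    rw [EtSite.mem_et_iff]
    intro z
    obtain ⟨Y, f, m, ⟨y, hy⟩, hm⟩ := exists_value (ZMod n) W s z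
    refine ⟨Y, f, y, ⟨m.down.val • F.obj.map f.op x, ?_⟩, hy⟩
    show (m.down.val • F.obj.map f.op x) ⊗ₜ[ℤ] gen n Y =
      TensorProduct.map _ _ (x ⊗ₜ[ℤ] s)
    rw [TensorProduct.map_tmul]
    refine Eq.trans ?_ (congrArg (fun q => F.obj.map f.op x ⊗ₜ[ℤ] q) hm)
    rw [TensorProduct.smul_tmul]
    refine congrArg (fun q => F.obj.map f.op x ⊗ₜ[ℤ] q) ?_
    have hm' : m = m.down.val • (⟨1⟩ : ULift.{u + 1} (ZMod n)) := ULift.ext _ _ (by
      rw [ULift.smul_down, nsmul_one, ZMod.natCast_zmod_val])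
    conv_rhs => rw [hm']
    exact (map_nsmul ((toSheafify X.smallEtaleTopology
      ((Functor.const X.Etaleᵒᵖ).obj (AddCommGrpCat.of (ULift.{u + 1} (ZMod n))))).app (op Y)).hom _ _).symm
  | add a b ha hb =>
    refine X.smallEtaleTopology.superset_covering ?_ (X.smallEtaleTopology.intersection_covering ha hb)
    rintro Y g ⟨⟨ya, hya⟩, ⟨yb, hyb⟩⟩
    exact ⟨ya + yb, (map_add _ _ _).trans ((congrArg₂ (· + ·) hya hyb).trans (map_add _ _ _).symm)⟩

/-- Tensoring with the constant sheaf. -/
theorem nonempty_tensor_const_iso (hn : n ≠ 0) (hF : n • 𝟙 F = 0) :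
    Nonempty (EtDual.tensorAb F (EtCoh.const X (ZMod n)) ≅ F) := by
  let J := X.smallEtaleTopology
  let P := EtDual.tensorPre F (EtCoh.const X (ZMod n))
  let ψ : F ⟶ EtDual.tensorAb F (EtCoh.const X (ZMod n)) := ObjectProperty.homMk (genTensor F ≫ toSheafify J P)
  haveI : Presheaf.IsLocallyInjective J (genTensor (n := n) F) :=
    Presheaf.isLocallyInjective_of_injective J _ fun W => genTensor_injective F hn hF W.unop
  haveI := genTensor_surjective (n := n) F hn
  haveI : Sheaf.IsLocallyInjective ψ :=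
    inferInstanceAs (Presheaf.IsLocallyInjective J (genTensor F ≫ toSheafify J P))
  haveI : Sheaf.IsLocallySurjective ψ :=
    inferInstanceAs (Presheaf.IsLocallySurjective J (genTensor F ≫ toSheafify J P))
  haveI : IsIso ψ := (Sheaf.isLocallyBijective_iff_isIso ψ).mp ⟨inferInstance, inferInstance⟩
  exact ⟨(asIso ψ).symm⟩

/-- The tensor product of sheaves respects isomorphisms. -/
noncomputable def tensorIso {F F' G G' : EtCoh.Ab X} (e : F ≅ F') (e' : G ≅ G') :
    EtDual.tensorAb F G ≅ EtDual.tensorAb F' G' :=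
  (presheafToSheaf _ _).mapIso (NatIso.ofComponents
    (fun W => AddEquiv.toAddCommGrpIso (TensorProduct.congr
      ((((sheafToPresheaf _ _).mapIso e).app W).addCommGroupIsoToAddEquiv.toIntLinearEquiv)
      ((((sheafToPresheaf _ _).mapIso e').app W).addCommGroupIsoToAddEquiv.toIntLinearEquiv)).toAddEquiv)
    (fun {W W'} g => by
      ext t
      show TensorProduct.congr _ _ (TensorProduct.map (EtDual.resLin F g) (EtDual.resLin G g) t) =
        TensorProduct.map (EtDual.resLin F' g) (EtDual.resLin G' g) (TensorProduct.congr _ _ t)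
      induction t using TensorProduct.induction_on with
      | zero => simp
      | add a b ha hb => simp only [map_add, ha, hb]
      | tmul x y =>
        simp only [TensorProduct.map_tmul, TensorProduct.congr_tmul]
        exact congrArg₂ (· ⊗ₜ[ℤ] ·) (NatTrans.naturality_apply e.hom.hom g x)
          (NatTrans.naturality_apply e'.hom.hom g y)))

/-- Roots of unity restrict. -/
noncomputable def restrMu (v : V ⟶ X) [AlgebraicGeometry.Etale v] (n : ℕ) :
    (EtShriek.restrAlong v).obj (EtCoh.mu X n) ≅ EtCoh.mu V n :=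
  PreservesKernel.iso (EtShriek.restrAlong v) (EtCoh.powMap X n) ≪≫
    kernel.mapIso _ _ ((fullyFaithfulSheafToPresheaf _ _).preimageIso (NatIso.ofComponents (fun W => Iso.refl _)))
      ((fullyFaithfulSheafToPresheaf _ _).preimageIso (NatIso.ofComponents (fun W => Iso.refl _))) (by
      ext W x
      simp [EtCoh.powMap])

theorem nonempty_tate_restr_iso (hn : n ≠ 0) (v : V ⟶ X) [AlgebraicGeometry.Etale v]
    (hu : IsUnit (n : Γ(V, ⊤))) (ζ : Γ(V, ⊤)) (hζ : Polynomial.aeval ζ (Polynomial.cyclotomic n ℤ) = 0) :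
    ∀ c : ℕ, Nonempty ((EtShriek.restrAlong v).obj (EtDual.tate X n c) ≅ EtCoh.const V (ZMod n))
  | 0 => ⟨restrConst v (ZMod n)⟩
  | c + 1 => by
    obtain ⟨e⟩ := nonempty_tate_restr_iso hn v hu ζ hζ c
    obtain ⟨μ⟩ := Kummer24.nonempty_mu_iso (Nat.one_le_iff_ne_zero.2 hn) hu ζ hζ
    obtain ⟨t⟩ := nonempty_tensor_const_iso (n := n) (EtCoh.const V (ZMod n)) hn (FieldH25.nsmul_id_const_zmod V n)
    exact ⟨restrTensor v (EtDual.tate X n c) (EtCoh.mu X n) ≪≫ tensorIso e (restrMu v n ≪≫ μ) ≪≫ t⟩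

/-- Étale locally there are enough roots of unity. -/
theorem exists_cyclotomic_nbhd (hn : n ≠ 0) (hu : IsUnit (n : Γ(X, ⊤))) (x : X) :
    ∃ (V : Scheme.{u}) (v : V ⟶ X) (_ : AlgebraicGeometry.Etale v), x ∈ Set.range v ∧
      IsUnit (n : Γ(V, ⊤)) ∧ ∃ ζ : Γ(V, ⊤), Polynomial.aeval ζ (Polynomial.cyclotomic n ℤ) = 0 := by
  obtain ⟨U, hU, hx, -⟩ := exists_isAffineOpen_mem_and_subset (X := X) (x := x) (U := ⊤) trivial
  let A := Γ(X, U)
  have huA : IsUnit (n : A) := by
    have h := hu.map (X.presheaf.map (homOfLE le_top : U ⟶ ⊤).op).hom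
    rw [map_natCast] at h
    exact h
  let f : Polynomial A := Polynomial.cyclotomic n A
  have hf : f.Monic := Polynomial.cyclotomic.monic n A
  have hsep : f.Separable := by
    refine Polynomial.Separable.of_dvd ?_ (Polynomial.cyclotomic.dvd_X_pow_sub_one n A)
    obtain ⟨w, hw⟩ := huA.exists_left_inv
    obtain ⟨m, rfl⟩ := Nat.exists_eq_succ_of_ne_zero hn
    rw [Polynomial.separable_def']
    refine ⟨-1, Polynomial.C w * Polynomial.X, ?_⟩
    have h1 : Polynomial.C w * (((m + 1 : ℕ) : Polynomial A)) = 1 := by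
      rw [← map_natCast Polynomial.C, ← map_mul, hw, map_one]
    simp only [Nat.succ_eq_add_one, Polynomial.derivative_sub, Polynomial.derivative_one, sub_zero,
      Polynomial.derivative_X_pow, map_natCast, Nat.add_sub_cancel]
    linear_combination (Polynomial.X ^ (m + 1)) * h1
  haveI : Nontrivial A := by
    haveI : Nonempty U := ⟨⟨x, hx⟩⟩
    infer_instance
  haveI := Groth.Agent.Azumaya.etale_adjoinRoot f hf hsep
  haveI := hf.free_adjoinRoot
  haveI := hf.finite_adjoinRoot
  haveI : Nontrivial (AdjoinRoot f) := Module.nontrivial_of_finrank_pos (R := A) (by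
    rw [(AdjoinRoot.powerBasis' hf).finrank, AdjoinRoot.powerBasis'_dim, Polynomial.natDegree_cyclotomic]
    exact Nat.totient_pos.2 (Nat.pos_of_ne_zero hn))
  let B := AdjoinRoot f
  let φ : A ⟶ CommRingCat.of B := CommRingCat.ofHom (algebraMap A B)
  haveI : AlgebraicGeometry.Etale (Spec.map φ) := by
    rw [HasRingHomProperty.Spec_iff (P := @AlgebraicGeometry.Etale)]
    exact RingHom.etale_algebraMap.2 inferInstance
  haveI : Module.FaithfullyFlat A B := inferInstance
  let v : Spec (CommRingCat.of B) ⟶ X := Spec.map φ ≫ hU.fromSpec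
  refine ⟨Spec (CommRingCat.of B), v, inferInstance, ?_, ?_, (Scheme.ΓSpecIso (CommRingCat.of B)).inv (AdjoinRoot.root f), ?_⟩
  · obtain ⟨p, hp⟩ : x ∈ Set.range hU.fromSpec := by rw [hU.range_fromSpec]; exact hx
    obtain ⟨q, hq⟩ := PrimeSpectrum.comap_surjective_of_faithfullyFlat (A := A) (B := B) p
    exact ⟨q, (congrArg hU.fromSpec hq).trans hp⟩
  · have h := hu.map v.appTop.hom
    rw [map_natCast] at h
    exact h
  · have h : Polynomial.aeval (AdjoinRoot.root f) (Polynomial.cyclotomic n ℤ) = 0 := by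
      rw [Polynomial.aeval_def, ← Polynomial.eval_map, Polynomial.map_cyclotomic]
      have h0 := AdjoinRoot.eval₂_root f
      rw [← Polynomial.eval_map, Polynomial.map_cyclotomic] at h0
      exact h0
    have h' := congrArg (Scheme.ΓSpecIso (CommRingCat.of B)).inv.hom h
    rw [map_zero, Polynomial.aeval_def, Polynomial.hom_eval₂] at h'
    rw [Polynomial.aeval_def]
    convert h' using 2
    exact RingHom.ext_int _ _

/-- Local cohomology sheaves of twists vanish when those of the constant sheaf do. -/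
theorem isZero_locCoh_tate {U : Scheme.{u}} (j : U ⟶ X) [IsOpenImmersion j] (hn : n ≠ 0)
    (hu : IsUnit (n : Γ(X, ⊤))) (c p : ℕ)
    (h : IsZero ((EtDual.locCoh j p).obj (EtCoh.const X (ZMod n)))) :
    IsZero ((EtDual.locCoh j p).obj (EtDual.tate X n c)) := by
  refine isZero_of_cover _ fun x => ?_
  obtain ⟨V, v, hv, hx, huV, ζ, hζ⟩ := exists_cyclotomic_nbhd hn hu x
  refine ⟨V, v, hv, hx, ?_⟩
  have sq : IsPullback (pullback.fst j v) (pullback.snd j v) j v := IsPullback.of_hasPullback _ _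
  haveI : IsOpenImmersion (pullback.snd j v) := inferInstance
  haveI : AlgebraicGeometry.Etale (pullback.fst j v) := inferInstance
  obtain ⟨e₁⟩ := nonempty_locCoh_restr v sq p (EtDual.tate X n c)
  obtain ⟨e₂⟩ := nonempty_locCoh_restr v sq p (EtCoh.const X (ZMod n))
  obtain ⟨e₃⟩ := nonempty_tate_restr_iso hn v huV ζ hζ c
  exact ((EtShriek.restrAlong v).map_isZero h).of_iso
    (e₁ ≪≫ (EtDual.locCoh (pullback.snd j v) p).mapIso (e₃ ≪≫ (restrConst v (ZMod n)).symm) ≪≫ e₂.symm)

end Groth.Agent.EtLocCoh19
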